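import Mathlib

/-!
# Coalgebras over an exact additive comonad (the model of comodules)

`C` abelian, `G : Comonad C` additive and preserving finite limits.  Then `G.Coalgebra` is abelian,
`G.forget` is exact, faithful, reflects isomorphisms, creates colimits, and `G.cofree` is its right
adjoint, which is exact when `G` preserves finite colimits as well.
-/

set_option autoImplicit false

noncomputable section

open CategoryTheory CategoryTheory.Limits

namespace Groth.Agent.ResProp.EF.K668

universe v u w w'

variable {C : Type u} [Category.{v} C] (G : Comonad C)

section Colimits

variable {J : Type w} [Category.{w'} J]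

instance hasColimitsOfShape [HasColimitsOfShape J C] : HasColimitsOfShape J G.Coalgebra where
  has_colimit D := Comonad.hasColimit_of_comp_forget_hasColimit D

instance preservesColimitsOfShape_forget [HasColimitsOfShape J C] :
    PreservesColimitsOfShape J G.forget where
  preservesColimit := inferInstance

instance hasLimitsOfShape [HasLimitsOfShape J C]
    [PreservesLimitsOfShape J G.toFunctor] : HasLimitsOfShape J G.Coalgebra where
  has_limit D := Comonad.forget_creates_limits_of_comonad_preserves D

instance preservesLimitsOfShape_forget [HasLimitsOfShape J C]
    [PreservesLimitsOfShape J G.toFunctor] : PreservesLimitsOfShape J G.forget where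
  preservesLimit := inferInstance

end Colimits

instance hasFiniteColimits [HasFiniteColimits C] : HasFiniteColimits G.Coalgebra where
  out _ _ _ := inferInstance

instance hasFiniteLimits [HasFiniteLimits C] [PreservesFiniteLimits G.toFunctor] :
    HasFiniteLimits G.Coalgebra where
  out _ _ _ := inferInstance

instance preservesFiniteColimits_forget [HasFiniteColimits C] :
    PreservesFiniteColimits G.forget where
  preservesFiniteColimits _ _ _ := inferInstance

instance preservesFiniteLimits_forget [HasFiniteLimits C] [PreservesFiniteLimits G.toFunctor] :
    PreservesFiniteLimits G.forget where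
  preservesFiniteLimits _ _ _ := inferInstance

instance faithful_forget : G.forget.Faithful := inferInstance

instance reflectsIsomorphisms_forget : G.forget.ReflectsIsomorphisms := inferInstance

/-- The cofree functor is right adjoint to the forgetful functor. -/
def adj : G.forget ⊣ G.cofree := G.adj

instance preservesLimits_cofree : PreservesLimitsOfSize.{w, w'} G.cofree :=
  (adj G).rightAdjoint_preservesLimits

/-- `G.cofree` preserves the colimits preserved by `G`. -/
instance preservesColimitsOfShape_cofree {J : Type w} [Category.{w'} J] [HasColimitsOfShape J C]
    [PreservesColimitsOfShape J G.toFunctor] : PreservesColimitsOfShape J G.cofree := by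
  have : PreservesColimitsOfShape J (G.cofree ⋙ G.forget) := by
    change PreservesColimitsOfShape J G.toFunctor
    infer_instance
  exact preservesColimitsOfShape_of_reflects_of_preserves G.cofree G.forget

instance preservesFiniteColimits_cofree [HasFiniteColimits C]
    [PreservesFiniteColimits G.toFunctor] : PreservesFiniteColimits G.cofree where
  preservesFiniteColimits _ _ _ := inferInstance

section Abelian

variable [Abelian C] [Functor.Additive G.toFunctor]

instance additive_cofree : G.cofree.Additive where
  map_add {X Y f g} := by
    apply G.forget.map_injective
    simp only [Functor.map_add]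
    exact G.toFunctor.map_add

variable [PreservesFiniteLimits G.toFunctor]

/-- Coalgebras over an exact additive comonad form an abelian category. -/
instance abelian : Abelian G.Coalgebra := by
  haveI : HasKernels G.Coalgebra := ⟨fun f => inferInstance⟩
  haveI : HasCokernels G.Coalgebra := ⟨fun f => inferInstance⟩
  haveI : ∀ {X Y : G.Coalgebra} (f : X ⟶ Y), IsIso (Abelian.coimageImageComparison f) := by
    intro X Y f
    have h : IsIso (G.forget.map (Abelian.coimageImageComparison f)) := by
      have e := Abelian.PreservesCoimageImageComparison.iso G.forget f
      exact (Arrow.isIso_iff_isIso_of_isIso e.inv).mp inferInstance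
    exact isIso_of_reflects_iso _ G.forget
  exact Abelian.ofCoimageImageComparisonIsIso

/-- The unit `M ⟶ G.cofree (G.forget M)` is split after `G.forget`. -/
instance isSplitMono_forget_unit (M : G.Coalgebra) :
    IsSplitMono (G.forget.map ((adj G).unit.app M)) :=
  IsSplitMono.mk' ⟨(adj G).counit.app (G.forget.obj M), (adj G).left_triangle_components M⟩

/-- The unit `M ⟶ G.cofree (G.forget M)` is a monomorphism. -/
instance mono_unit (M : G.Coalgebra) : Mono ((adj G).unit.app M) :=
  G.forget.mono_of_mono_map inferInstance

/-- If `I` is injective in `C` then `G.cofree.obj I` is injective. -/
instance injective_cofree (I : C) [Injective I] : Injective (G.cofree.obj I) :=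
  (adj G).map_injective I inferInstance

instance enoughInjectives [EnoughInjectives C] : EnoughInjectives G.Coalgebra where
  presentation M := ⟨{
    J := G.cofree.obj (Injective.under (G.forget.obj M))
    injective := inferInstance
    f := (adj G).unit.app M ≫ G.cofree.map (Injective.ι _)
    mono := mono_comp _ _ }⟩

section AB

variable {J : Type w} [Category.{w'} J]

/-- Exactness of colimits of shape `J` passes from `C` to coalgebras. -/
instance hasExactColimitsOfShape [HasColimitsOfShape J C] [HasExactColimitsOfShape J C] :
    HasExactColimitsOfShape J G.Coalgebra :=
  HasExactColimitsOfShape.domain_of_functor J G.forget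

end AB

instance hasFilteredColimitsOfSize [HasFilteredColimitsOfSize.{w, w'} C] :
    HasFilteredColimitsOfSize.{w, w'} G.Coalgebra where
  HasColimitsOfShape _ _ _ := inferInstance

instance ab5OfSize [HasFilteredColimitsOfSize.{w, w'} C] [AB5OfSize.{w, w'} C] :
    AB5OfSize.{w, w'} G.Coalgebra where
  ofShape _ _ _ := inferInstance

instance hasCoproducts [HasCoproducts.{w} C] : HasCoproducts.{w} G.Coalgebra :=
  fun _ => inferInstance

instance ab4OfSize [HasCoproducts.{w} C] [AB4OfSize.{w} C] : AB4OfSize.{w} G.Coalgebra where
  ofShape _ := inferInstance

end Abelian

/-! ### The case of modules -/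

section Modules

variable {R : Type u} [Ring R] (G : Comonad (ModuleCat.{u} R)) [Functor.Additive G.toFunctor]
  [PreservesFiniteLimits G.toFunctor]

example : Abelian G.Coalgebra := inferInstance
example : EnoughInjectives G.Coalgebra := inferInstance
example : AB5.{u} G.Coalgebra := inferInstance
example : AB4.{u} G.Coalgebra := inferInstance
example : HasCoproducts.{u} G.Coalgebra := inferInstance
example : G.forget.Additive := inferInstance
example : G.forget.PreservesHomology := inferInstance
example [PreservesFiniteColimits G.toFunctor] : G.cofree.PreservesHomology := inferInstance

end Modules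

end Groth.Agent.ResProp.EF.K668
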