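import Groth.Agent.ResProp.EF.K294.Tor
import Mathlib.RingTheory.RingHom.Flat

/-!
# `v^* v_*` preserves lower Tor bounds (ring level)
-/

set_option autoImplicit false
set_option backward.defeqAttrib.useBackward true
set_option backward.isDefEq.respectTransparency false

universe w' w v u

open CategoryTheory CategoryTheory.Limits MonoidalCategory HomologicalComplex TensorProduct

namespace Groth.Agent.ResProp.EF.K668

open Groth.Agent.Dcoh.KFlatAbs Groth.Agent.PerfB.RingKFlat Groth.Agent.Dcoh.KFlatFlip
  Groth.Agent.PerfB Groth.Agent.ResProp.EF.K294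

variable {A : Type u} [CommRing A]

/-- the braiding as comparison data -/
noncomputable def brData (A : Type u) [CommRing A] :
    BifCompare.Data (TR A) (TR A).flip (𝟭 _) (𝟭 _) (𝟭 _) where
  e M N := β_ M N
  nat₁ f N := BraidedCategory.braiding_naturality_left f N
  nat₂ M _ _ g := BraidedCategory.braiding_naturality_right M g

/-- `tens K L ≅ tens L K` -/
noncomputable def tensComm (K L : CM A) : tens L K ≅ tens K L :=
  (flipIso (T := TR A) L K).symm ≪≫ BifCompare.iso (brData A) K L

section Two

variable {R S : Type u} [CommRing R] [CommRing S] [Algebra R S]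

/-- restriction of scalars on complexes -/
noncomputable abbrev resC (R S : Type u) [CommRing R] [CommRing S] [Algebra R S] : CM S ⥤ CM R :=
  (res R S).mapHomologicalComplex (ComplexShape.up ℤ)

/-- extension of scalars on complexes -/
noncomputable abbrev extC (R S : Type u) [CommRing R] [CommRing S] [Algebra R S] : CM R ⥤ CM S :=
  (ext R S).mapHomologicalComplex (ComplexShape.up ℤ)

theorem exactAt_resC_iff (K : CM S) (i : ℤ) : ((resC R S).obj K).ExactAt i ↔ K.ExactAt i := by
  constructor
  · intro h
    exact (res R S).reflects_exact_of_faithful (K.sc i) h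
  · intro h
    exact ShortComplex.Exact.map h (res R S)

/-- `(K ⊗_S (S ⊗_R L))|_R ≅ K|_R ⊗_R L` -/
noncomputable def projIso (K : CM S) (L : CM R) :
    tens ((resC R S).obj K) L ≅ (resC R S).obj (tens K ((extC R S).obj L)) :=
  BifCompare.iso (cbcData R S) K L

end Two

section Hom

variable {R S : Type u} [CommRing R] [CommRing S]

/-- extension of scalars along `f` (model `S ⊗ M`) -/
noncomputable def extH (f : R →+* S) : ModuleCat.{u} R ⥤ ModuleCat.{u} S :=
  letI := f.toAlgebra
  ext R S

instance (f : R →+* S) : (extH f).Additive :=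
  letI := f.toAlgebra
  inferInstanceAs (ext R S).Additive

/-- restriction of scalars along `f` -/
noncomputable abbrev resH (f : R →+* S) : ModuleCat.{u} S ⥤ ModuleCat.{u} R :=
  ModuleCat.restrictScalars f

/-- on complexes -/
noncomputable abbrev extHC (f : R →+* S) : CM R ⥤ CM S :=
  (extH f).mapHomologicalComplex (ComplexShape.up ℤ)

/-- on complexes -/
noncomputable abbrev resHC (f : R →+* S) : CM S ⥤ CM R :=
  (resH f).mapHomologicalComplex (ComplexShape.up ℤ)

theorem exactAt_resHC_iff (f : R →+* S) (K : CM S) (i : ℤ) :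
    ((resHC f).obj K).ExactAt i ↔ K.ExactAt i :=
  letI := f.toAlgebra
  exactAt_resC_iff (R := R) K i

theorem exactAt_proj (f : R →+* S) (K : CM S) (L : CM R) (i : ℤ) :
    (tens ((resHC f).obj K) L).ExactAt i ↔ (tens K ((extHC f).obj L)).ExactAt i := by
  let _ := f.toAlgebra
  have e : tens ((resHC f).obj K) L ≅ (resHC f).obj (tens K ((extHC f).obj L)) :=
    projIso (R := R) (S := S) K L
  rw [← exactAt_resHC_iff f]
  exact ⟨fun h => h.of_iso e, fun h => h.of_iso e.symm⟩

theorem exactAt_comm (K L : CM R) (i : ℤ) : (tens K L).ExactAt i ↔ (tens L K).ExactAt i :=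
  ⟨fun h => h.of_iso (tensComm L K), fun h => h.of_iso (tensComm K L)⟩

/-- `(S ⊗_t K)|_s ⊗ L` and `K ⊗ (S ⊗_s L)|_t` are exact in the same degrees. -/
theorem exactAt_two (s t : R →+* S) (K L : CM R) (i : ℤ) :
    (tens ((resHC s).obj ((extHC t).obj K)) L).ExactAt i ↔
      (tens K ((resHC t).obj ((extHC s).obj L))).ExactAt i := by
  rw [exactAt_proj, exactAt_comm, ← exactAt_proj, exactAt_comm]

theorem flat_extH (f : R →+* S) (M : ModuleCat.{u} R) (h : Module.Flat R M) :
    Module.Flat S ((extH f).obj M) :=
  letI := f.toAlgebra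
  inferInstanceAs (Module.Flat S (S ⊗[R] M))

theorem flat_resH (f : R →+* S) (hf : f.Flat) (M : ModuleCat.{u} S) (h : Module.Flat S M) :
    Module.Flat R ((resH f).obj M) := by
  let _ := f.toAlgebra
  let _ : Module R M := Module.compHom M f
  have : IsScalarTower R S M := ⟨fun a b n => mul_smul (f a) b n⟩
  have : Module.Flat R S := hf
  exact Module.Flat.trans R S M

/-- `extH f ⋙ resH f` is tensoring with `S` -/
noncomputable def extResH (f : R →+* S) :
    letI := f.toAlgebra
    extH f ⋙ resH f ≅ tensorLeft (ModuleCat.of R S) :=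
  letI := f.toAlgebra
  extResIso R S

theorem preservesFiniteLimits_extH (f : R →+* S) (hf : f.Flat) :
    PreservesFiniteLimits (extH f) := by
  let _ := f.toAlgebra
  have : Module.Flat R (ModuleCat.of R S) := hf
  have h1 : PreservesFiniteLimits (tensorLeft (ModuleCat.of R S)) := inferInstance
  have h2 : PreservesFiniteLimits (extH f ⋙ resH f) :=
    preservesFiniteLimits_of_natIso (extResH f).symm
  exact preservesFiniteLimits_of_reflects_of_preserves (extH f) (resH f)

/-- `extH f` is Mathlib's extension of scalars -/
noncomputable def extHIso (f : R →+* S) : ModuleCat.extendScalars f ≅ extH f :=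
  NatIso.ofComponents (fun _ => Iso.refl _) fun _ => rfl

theorem preservesFiniteColimits_extH (f : R →+* S) : PreservesFiniteColimits (extH f) :=
  preservesFiniteColimits_of_natIso (extHIso f)

theorem preservesHomology_extH (f : R →+* S) (hf : f.Flat) : (extH f).PreservesHomology := by
  have := preservesFiniteLimits_extH f hf
  have := preservesFiniteColimits_extH f
  infer_instance

theorem IsTest.two (s t : R →+* S) (hs : s.Flat) (ht : t.Flat) {L : CM R} (hL : IsTest L) :
    IsTest ((resHC t).obj ((extHC s).obj L)) where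
  le := by
    have := hL.le
    infer_instance
  flat n := flat_resH t ht _ (flat_extH s _ (hL.flat n))
  exact i hi := by
    rw [exactAt_resHC_iff]
    have := preservesHomology_extH s hs
    exact ShortComplex.Exact.map (hL.exact i hi) (extH s)

/-- **`v^* v_*` preserves lower Tor bounds** -/
theorem TorGE.two (s t : R →+* S) (hs : s.Flat) (ht : t.Flat) {a : ℤ} {K : CM R} (hK : TorGE a K) :
    TorGE a ((resHC s).obj ((extHC t).obj K)) := fun L hL i hi =>
  (exactAt_two s t K L i).2 (hK _ (IsTest.two s t hs ht hL) i hi)

end Hom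

end Groth.Agent.ResProp.EF.K668
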