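import Groth.Agent.ResProp.EF.K554.Pkg
import Groth.Agent.ResProp.EF.K668.TorUL

/-!
# `Comod A` is a `K294.Chart` over `A⟨0⟩`
-/

set_option autoImplicit false
set_option linter.dupNamespace false

universe u

open CategoryTheory CategoryTheory.Limits Opposite

namespace Groth.Agent.ResProp.EF.K668

open K784.BC K784.PM K741.RP EF56 Groth.Agent.ResProp.EF.K294 Groth.Agent.ResProp.EF.K554

variable {A : NFᵒᵖ ⥤ CommRingCat.{u}}

/-- `v^* v_*` -/
noncomputable def pstVst (h : GR A) :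
    pst h ⋙ vst A ≅ extH (rg A (lst ⟨0⟩)) ⋙ resH (rg A (pr ⟨0⟩)) :=
  pstEval h ⟨0⟩ ≪≫ Functor.isoWhiskerRight (extHIso _) _

theorem flat_pr (h : GR A) : (rg A (pr ⟨0⟩)).Flat := (h.ff ⟨0⟩).fl

theorem flat_lst (h : GR A) : (rg A (lst ⟨0⟩)).Flat := (Groth.Agent.ResProp.EF.K741.ff_pt h ⟨1⟩ 1).fl

/-- `v^* v_*` preserves lower Tor bounds. -/
theorem torGE_pst (h : GR A) [(pst h ⋙ vst A).Additive] (a : ℤ) (K : CM (A.obj (op ⟨0⟩))) (hK : TorGE a K) :
    TorGE a (((pst h ⋙ vst A).mapHomologicalComplex (ComplexShape.up ℤ)).obj K) :=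
  TorGE.of_iso ((NatIso.mapHomologicalComplex (pstVst h) (ComplexShape.up ℤ)).symm.app K)
    (TorGE.two (rg A (pr ⟨0⟩)) (rg A (lst ⟨0⟩)) (flat_pr h) (flat_lst h) hK)

/-- **the chart `Spec A⟨0⟩ ⟶ X` of the stack of a groupoid ring** -/
noncomputable def chartComod (h : GR A) :
    haveI : Fact (GR A) := ⟨h⟩
    Chart (A.obj (op ⟨0⟩)) (Comod A) :=
  haveI : Fact (GR A) := ⟨h⟩
  haveI := pst_additive h
  { us := vst A
    ul := pst h
    adj := pstAdj h
    additive_us := inferInstance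
    additive_ul := pst_additive h
    exact_us := inferInstance
    faithful_us := inferInstance
    exact_ul := pst_preservesFiniteColimits h
    torGE_ul := fun a K hK => torGE_pst h a K hK }

end Groth.Agent.ResProp.EF.K668
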